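import Mathlib

/-!
# Lang's theorem for the diagonal torus of `SL₅`, characteristic 3 (helper988; S5925, box B (b))

If the Frobenius image of `A ∈ SL₅(k)` is `A` times a diagonal matrix, then `A` is the product of a matrix over `F₃`
and a diagonal matrix.
-/

set_option autoImplicit false

namespace Cfsg.Agent.H988.E8

open Matrix

/-- the embedding of the prime field -/
abbrev c3 (k : Type*) [Field k] [CharP k 3] : ZMod 3 →+* k := ZMod.castHom (dvd_refl 3) k

theorem exists_c3 {k : Type*} [Field k] [CharP k 3] {x : k} (h : x ^ 3 = x) : ∃ z : ZMod 3, c3 k z = x := by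
  have h1 : x * ((x - 1) * (x + 1)) = 0 := by
    have : x * ((x - 1) * (x + 1)) = x ^ 3 - x := by ring
    rw [this, h, sub_self]
  rcases mul_eq_zero.1 h1 with h2 | h2
  · exact ⟨0, by rw [map_zero, h2]⟩
  · rcases mul_eq_zero.1 h2 with h3 | h3
    · exact ⟨1, by rw [map_one]; exact (sub_eq_zero.1 h3).symm⟩
    · exact ⟨-1, by rw [map_neg, map_one]; exact (eq_neg_of_add_eq_zero_left h3).symm⟩

theorem lang_diag {k : Type*} [Field k] [IsAlgClosed k] [CharP k 3] (A : SpecialLinearGroup (Fin 5) k)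
    (d : Fin 5 → k) (h : ∀ i j, (A : Matrix (Fin 5) (Fin 5) k) i j ^ 3 = (A : Matrix (Fin 5) (Fin 5) k) i j * d j) :
    ∃ (A' : SpecialLinearGroup (Fin 5) (ZMod 3)) (t : Fin 5 → k), ∏ i, t i = 1 ∧ (∀ i, t i ^ 2 = d i) ∧
      ∀ i j, (A : Matrix (Fin 5) (Fin 5) k) i j = c3 k ((A' : Matrix (Fin 5) (Fin 5) (ZMod 3)) i j) * t j := by
  have : Fact (Nat.Prime 3) := ⟨Nat.prime_three⟩
  have hdd : ∏ i, d i = 1 := by
    have h1 : ((A : Matrix (Fin 5) (Fin 5) k).map (frobenius k 3)) = (A : Matrix (Fin 5) (Fin 5) k) * diagonal d := by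
      ext i j
      rw [Matrix.mul_diagonal, Matrix.map_apply, frobenius_def, h]
    have h2 := congrArg Matrix.det h1
    rw [Matrix.det_mul, Matrix.det_diagonal, A.2, one_mul] at h2
    rw [← h2]
    have h3 := (RingHom.map_det (frobenius k 3) (A : Matrix (Fin 5) (Fin 5) k)).symm
    rw [A.2, map_one] at h3
    exact h3
  have hs : ∀ i, ∃ s : k, s ^ 2 = d i := fun i => IsAlgClosed.exists_pow_nat_eq (d i) (by norm_num)
  choose s hs using hs
  have hps : (∏ i, s i) ^ 2 = 1 := by
    rw [← Finset.prod_pow, Finset.prod_congr rfl fun i _ => hs i, hdd]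
  obtain ⟨t, ht, htd⟩ : ∃ t : Fin 5 → k, ∏ i, t i = 1 ∧ ∀ i, t i ^ 2 = d i := by
    rw [pow_two] at hps
    rcases mul_self_eq_one_iff.1 hps with h1 | h1
    · exact ⟨s, h1, hs⟩
    · refine ⟨Function.update s 0 (- s 0), ?_, ?_⟩
      · have h3 : ∏ i, Function.update s 0 (- s 0) i = - s 0 * ∏ i : Fin 4, s i.succ := by
          rw [Fin.prod_univ_succ, Function.update_self]
          congr 1
        rw [h3, neg_mul, ← Fin.prod_univ_succ, h1, neg_neg]
      · intro i
        by_cases hi : i = 0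
        · subst hi
          rw [Function.update_self, neg_sq, hs]
        · rw [Function.update_of_ne hi, hs]
  have ht0 : ∀ i, t i ≠ 0 := by
    intro i hi
    have : ∏ i, t i = 0 := Finset.prod_eq_zero (Finset.mem_univ i) hi
    rw [ht] at this
    exact one_ne_zero this
  have hz : ∀ i j, ∃ z : ZMod 3, c3 k z = (A : Matrix (Fin 5) (Fin 5) k) i j * (t j)⁻¹ := by
    intro i j
    apply exists_c3
    rw [mul_pow, h, ← htd, inv_pow]
    field_simp
  choose z hz using hz
  have hA : (A : Matrix (Fin 5) (Fin 5) k) * diagonal (fun j => (t j)⁻¹) = (Matrix.of z).map (c3 k) := by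
    ext i j
    rw [Matrix.mul_diagonal, Matrix.map_apply, Matrix.of_apply, hz]
  have hdet : (Matrix.of z).det = 1 := by
    apply (c3 k).injective
    rw [RingHom.map_det, map_one]
    have h2 := congrArg Matrix.det hA
    rw [Matrix.det_mul, Matrix.det_diagonal, A.2, one_mul, Finset.prod_inv_distrib, ht, inv_one] at h2
    exact h2.symm
  refine ⟨⟨Matrix.of z, hdet⟩, t, ht, htd, fun i j => ?_⟩
  show _ = c3 k (z i j) * t j
  rw [hz, inv_mul_cancel_right₀ (ht0 j)]

end Cfsg.Agent.H988.E8
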